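import Groth.Prelude.Def_RedSub
import Groth.Agent.Sga3A.NormDefs

set_option autoImplicit false
open CategoryTheory MonoidalCategory CartesianMonoidalCategory MonObj GrpObj AlgebraicGeometry Limits
universe u

/-! Conjugacy of subgroups over a base change `f : U ⟶ S`, in terms of points over `S`. -/

namespace Groth.Agent.RedSub.H657.ConjBc

open Groth.Agent.Sga3A.NormDefs Groth.Agent.Sga3B.BcPts

variable {S U : Scheme.{u}} (f : U ⟶ S) {G P P' : Over S} [GrpObj G]

/-- The unit object over `U`, viewed over `S`. -/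
noncomputable def unitIso : (Over.map f).obj (𝟙_ (Over U)) ≅ Over.mk f := Over.isoMk (Iso.refl _) (by simp)

lemma conj_bcEquiv {T : Over U} (g k : (Over.map f).obj T ⟶ G) :
    bcEquiv f T G (g * k * g⁻¹) = bcEquiv f T G g * bcEquiv f T G k * (bcEquiv f T G g)⁻¹ := by
  have h3 : (bcEquiv f T G g)⁻¹ = bcEquiv f T G g⁻¹ := ((bcMulEquiv f T G).map_inv _).symm
  rw [h3, ← bcEquiv_mul, ← bcEquiv_mul]

lemma conj_bcEquiv' {T : Over U} (g k : (Over.map f).obj T ⟶ G) :
    bcEquiv f T G (g⁻¹ * k * g) = (bcEquiv f T G g)⁻¹ * bcEquiv f T G k * (bcEquiv f T G g) := by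
  have h3 : (bcEquiv f T G g)⁻¹ = bcEquiv f T G g⁻¹ := ((bcMulEquiv f T G).map_inv _).symm
  rw [h3, ← bcEquiv_mul, ← bcEquiv_mul]

/-- A point over `U` conjugating `P_U` onto `P'_U` gives a `U`-valued point over `S` which conjugates `P` onto `P'`. -/
theorem exists_conjEq (p : P ⟶ G) (p' : P' ⟶ G) (g : 𝟙_ (Over U) ⟶ Red.bc f G)
    (h : RedSub.ConjEq ((Over.pullback f).map p) ((Over.pullback f).map p') g) :
    ∃ g' : Over.mk f ⟶ G, RedSub.ConjEq p p' g' := by
  let g₀ : (Over.map f).obj (𝟙_ (Over U)) ⟶ G := (bcEquiv f _ G).symm g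
  let g' : Over.mk f ⟶ G := (unitIso f).inv ≫ g₀
  refine ⟨g', fun X x => ?_⟩
  let T : Over U := Over.mk (x.left : X.left ⟶ U)
  let e : (Over.map f).obj T ≅ X := overIso x
  have hx : e.hom ≫ x ≫ g' = (Over.map f).map (toUnit T) ≫ g₀ := by
    have : e.hom ≫ x ≫ (unitIso f).inv = (Over.map f).map (toUnit T) := by
      ext1
      have h1 : (toUnit T).left = x.left := by
        simp [T]
      rw [Over.map_map_left, h1]
      simp only [e, overIso, unitIso, Over.comp_left, Over.isoMk_hom_left, Over.isoMk_inv_left, Iso.refl_hom,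
        Iso.refl_inv]
      exact (Category.id_comp _).trans (Category.comp_id _)
    simp only [g']
    rw [← this]
    simp only [Category.assoc]
  have hbx : bcEquiv f T G (e.hom ≫ x ≫ g') = toUnit T ≫ g := by
    rw [hx, comp_bcEquiv]
    simp only [g₀, Equiv.apply_symm_apply]
  have key : ∀ {Q : Over S} (q : Q ⟶ G) (y : X ⟶ G),
      InP ((Over.pullback f).map q) (bcEquiv f T G (e.hom ≫ y)) → InP q y := by
    intro Q q y hy
    have := ((inP_bc_iff (i := q) f _).1 hy).comp e.inv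
    rwa [Iso.inv_hom_id_assoc] at this
  constructor
  · intro k
    obtain ⟨w, hw⟩ := (h T (toUnit T)).1 (bcEquiv f T P (e.hom ≫ k))
    obtain ⟨z, hz⟩ := key p' ((x ≫ g') * (k ≫ p) * (x ≫ g')⁻¹) (by
      refine ⟨w, ?_⟩
      rw [← hw, comp_conj, conj_bcEquiv, hbx, ← Category.assoc e.hom k p, bcEquiv_comp f (e.hom ≫ k) p])
    exact ⟨z, hz.symm⟩
  · intro k
    obtain ⟨w, hw⟩ := (h T (toUnit T)).2 (bcEquiv f T P' (e.hom ≫ k))
    obtain ⟨z, hz⟩ := key p ((x ≫ g')⁻¹ * (k ≫ p') * (x ≫ g')) (by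
      refine ⟨w, ?_⟩
      have e1 : e.hom ≫ ((x ≫ g')⁻¹ * (k ≫ p') * (x ≫ g')) =
          (e.hom ≫ x ≫ g')⁻¹ * (e.hom ≫ k ≫ p') * (e.hom ≫ x ≫ g') := by
        simp [MonObj.comp_mul, GrpObj.comp_inv]
      rw [← hw, e1, conj_bcEquiv', hbx, ← Category.assoc e.hom k p', bcEquiv_comp f (e.hom ≫ k) p'])
    exact ⟨z, hz.symm⟩

end Groth.Agent.RedSub.H657.ConjBc
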