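import Groth.Agent.Sga3A.NormDefs
import Mathlib.AlgebraicGeometry.Morphisms.FlatDescent
import Mathlib.AlgebraicGeometry.Morphisms.Etale

set_option autoImplicit false
open CategoryTheory MonoidalCategory CartesianMonoidalCategory MonObj GrpObj AlgebraicGeometry Limits
universe u

/-! Factoring through a monomorphism is local for the fppf topology. -/

namespace Groth.Agent.RedSub.H657.FacLoc

open Groth.Agent.Sga3A.NormDefs Groth.Agent.Sga3B.BcPts

/-- Factoring through a monomorphism may be checked after a flat surjective morphism locally of finite presentation. -/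
theorem exists_fac_of_cover {V X Y Z : Scheme.{u}} (π : V ⟶ X) [Flat π] [LocallyOfFinitePresentation π] [Surjective π]
    (x : X ⟶ Z) (i : Y ⟶ Z) [Mono i] (h : ∃ z : V ⟶ Y, z ≫ i = π ≫ x) : ∃ z : X ⟶ Y, z ≫ i = x := by
  obtain ⟨z, hz⟩ := h
  let j := pullback.fst x i
  have hj : Mono j := inferInstance
  have h1 : IsIso (pullback.fst π j) := by
    have hm : Mono (pullback.fst π j) := inferInstance
    let s : V ⟶ pullback π j := pullback.lift (𝟙 _) (pullback.lift π z hz.symm) (by
      rw [Category.id_comp, pullback.lift_fst])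
    have hs : s ≫ pullback.fst π j = 𝟙 _ := pullback.lift_fst _ _ _
    exact ⟨s, by rw [← cancel_mono (pullback.fst π j), Category.assoc, hs, Category.comp_id, Category.id_comp], hs⟩
  have h2 : IsIso j :=
    MorphismProperty.of_pullback_fst_of_descendsAlong (P := MorphismProperty.isomorphisms Scheme.{u})
      (Q := @Surjective ⊓ @Flat ⊓ @LocallyOfFinitePresentation) (f := π) ⟨⟨inferInstance, inferInstance⟩, inferInstance⟩ h1
  exact ⟨inv j ≫ pullback.snd x i, by rw [Category.assoc, ← pullback.condition, IsIso.inv_hom_id_assoc]⟩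

/-- Factoring through a monomorphism is local for the fppf topology. -/
theorem exists_fac_of_local {X Y Z : Scheme.{u}} (x : X ⟶ Z) (i : Y ⟶ Z) [Mono i]
    (h : ∀ p : X, ∃ (U : Scheme.{u}) (f : U ⟶ X), Flat f ∧ LocallyOfFinitePresentation f ∧ p ∈ Set.range f ∧
      ∃ z : U ⟶ Y, z ≫ i = f ≫ x) : ∃ z : X ⟶ Y, z ≫ i = x := by
  choose U f hf hlfp hmem z hz using h
  let π : (∐ U) ⟶ X := Sigma.desc f
  have h1 : Flat π := IsZariskiLocalAtSource.sigmaDesc hf
  have h2 : LocallyOfFinitePresentation π := IsZariskiLocalAtSource.sigmaDesc hlfp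
  have h3 : Surjective π := by
    refine ⟨fun p => ?_⟩
    obtain ⟨y, hy⟩ := hmem p
    refine ⟨Sigma.ι U p y, ?_⟩
    rw [← Scheme.Hom.comp_apply, Sigma.ι_desc]
    exact hy
  refine exists_fac_of_cover π x i ⟨Sigma.desc z, ?_⟩
  refine Sigma.hom_ext _ _ fun p => ?_
  rw [← Category.assoc, ← Category.assoc, Sigma.ι_desc, Sigma.ι_desc, hz]

/-- Lying in a subscheme is local for the étale topology on the base. -/
theorem inP_of_local {S : Scheme.{u}} {G P X : Over S} (i : P ⟶ G) [Mono i.left] (x : X ⟶ G)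
    (h : ∀ s : S, ∃ (U : Scheme.{u}) (f : U ⟶ S), Flat f ∧ LocallyOfFinitePresentation f ∧ s ∈ Set.range f.base ∧
      InP ((Over.pullback f).map i) ((Over.pullback f).map x)) : InP i x := by
  obtain ⟨z, hz⟩ := exists_fac_of_local x.left i.left fun p => by
    obtain ⟨U, f, hf1, hf2, ⟨y, hy⟩, z, hz⟩ := h (X.hom p)
    obtain ⟨w, hw1, hw2⟩ := Scheme.Pullback.exists_preimage_pullback (f := X.hom) (g := f) p y hy.symm
    refine ⟨pullback X.hom f, pullback.fst X.hom f, inferInstance, inferInstance, ⟨w, hw1⟩,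
      z.left ≫ pullback.fst P.hom f, ?_⟩
    have h1 := congr(($hz).left ≫ pullback.fst G.hom f)
    simp only [Over.comp_left, Category.assoc] at h1
    have h2 : ((Over.pullback f).map i).left ≫ pullback.fst G.hom f = pullback.fst P.hom f ≫ i.left :=
      pullback.lift_fst _ _ _
    have h3 : ((Over.pullback f).map x).left ≫ pullback.fst G.hom f = pullback.fst X.hom f ≫ x.left :=
      pullback.lift_fst _ _ _
    rw [h2, h3] at h1
    rw [Category.assoc]
    exact h1
  refine ⟨Over.homMk z ?_, ?_⟩
  · rw [← Over.w i, ← Category.assoc, hz, Over.w x]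
  · ext1
    exact hz

end Groth.Agent.RedSub.H657.FacLoc
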