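import Groth.Agent.RedSub.H657.TrOver
import Groth.Agent.RedSub.H657.ConjBc
import Groth.Agent.RedSub.H657.FacLoc

/-!
# The transporter of a Borel subgroup into a parabolic subgroup containing it

`G` reductive over an arbitrary base `S`, `P` parabolic, `B` Borel, `B ⊆ P`.
* `inP_of_tr`: a point `g` of `G` with `g B g⁻¹ ⊆ P` lies in `P`;
* `eq_of_conj`: two parabolic subgroups containing `B` which are conjugate locally for the fppf topology are equal.
-/

set_option autoImplicit false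

universe u

open CategoryTheory MonoidalCategory CartesianMonoidalCategory MonObj GrpObj AlgebraicGeometry Limits

namespace Groth.Agent.RedSub.H657.TrBorel

open Groth.Agent.Sga3A.NormDefs TrDefs TrInf

variable {S : Scheme.{u}} {G P P' B : Over S} [GrpObj G] [GrpObj P] [GrpObj P'] [GrpObj B]

omit [GrpObj P'] in
/-- **`Tr(B, P) = P`**: a point of `G` which conjugates the Borel subgroup `B` into the parabolic subgroup `P`
containing `B` is a point of `P`. -/
theorem inP_of_tr (hG : Red.IsReductive G) (p : P ⟶ G) (hP : Red.IsParabolic p) (b : B ⟶ G) (hB : Red.IsBorel b)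
    (c : B ⟶ P) (hc : c ≫ p = b) {X : Over S} (g : X ⟶ G) (hg : Tr b p g) : InP p g := by
  have hbcl : IsClosedImmersion b.left := hB.2.1
  have hGa : IsAffineHom G.hom := hG.1
  have hBs : Smooth B.hom := hB.2.2.1
  refine TrMain.inP_of_tr b p c hc hP.1 hP.2.1 hG.1 hG.2.1 hP.2.2.1 ?_ inferInstance ?_ ?_ g hg
  · rw [← Over.w b]
    infer_instance
  · intro s g hg
    exact TrOver.inP_of_tr_over _ _ (hG.2.2 s) (hP.2.2.2 s) (hB.2.2.2 s) ((Over.pullback (Red.geomPt s)).map c)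
      (by rw [← Functor.map_comp, hc]) g hg
  · intro s
    exact TrOver.infTr_over _ _ (hG.2.2 s) (hP.2.2.2 s) (hB.2.2.2 s) ((Over.pullback (Red.geomPt s)).map c)
      (by rw [← Functor.map_comp, hc])

/-- If `g` conjugates `P` onto `P'`, both parabolic and containing the Borel subgroup `B`, then `g ∈ P`. -/
theorem inP_of_conjEq (hG : Red.IsReductive G) (p : P ⟶ G) (hP : Red.IsParabolic p) (p' : P' ⟶ G)
    (b : B ⟶ G) (hB : Red.IsBorel b)
    (hb : ∃ c : B ⟶ P, c ≫ p = b) (hb' : ∃ c' : B ⟶ P', c' ≫ p' = b) {X : Over S} (g : X ⟶ G)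
    (h : RedSub.ConjEq p p' g) : InP p g := by
  obtain ⟨c, hc⟩ := hb
  obtain ⟨c', hc'⟩ := hb'
  have hp := hP.1
  have h1 : InP p g⁻¹ := by
    refine inP_of_tr hG p hP b hB c hc g⁻¹ fun X' x k => ?_
    obtain ⟨z, hz⟩ := (h X' x).2 (k ≫ c')
    refine ⟨z, ?_⟩
    rw [← hz, Category.assoc, hc', GrpObj.comp_inv, _root_.inv_inv]
  have := h1.inv
  rwa [_root_.inv_inv] at this

/-- **Two parabolic subgroups containing a common Borel subgroup and conjugate locally for the fppf topology are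
equal** (inclusion). -/
theorem inP_of_locally_conj (hG : Red.IsReductive G) (p : P ⟶ G) (hP : Red.IsParabolic p) (p' : P' ⟶ G)
    (hP' : Red.IsParabolic p') (b : B ⟶ G) (hB : Red.IsBorel b)
    (hb : ∃ c : B ⟶ P, c ≫ p = b) (hb' : ∃ c' : B ⟶ P', c' ≫ p' = b)
    (hconj : ∀ s : S, ∃ (U : Scheme.{u}) (f : U ⟶ S), Flat f ∧ LocallyOfFinitePresentation f ∧ s ∈ Set.range f.base ∧
      ∃ g : 𝟙_ _ ⟶ Red.bc f G, RedSub.ConjEq ((Over.pullback f).map p) ((Over.pullback f).map p') g) :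
    InP p' p := by
  have hcl' : IsClosedImmersion p'.left := hP'.2.1
  have hmono : Mono p'.left := inferInstance
  obtain ⟨z, hz⟩ := FacLoc.exists_fac_of_local p.left p'.left fun y => by
    obtain ⟨U, f, hf1, hf2, ⟨w, hw⟩, g₀, hg₀⟩ := hconj (P.hom y)
    obtain ⟨g, hg⟩ := ConjBc.exists_conjEq f p p' g₀ hg₀
    obtain ⟨v, hv1, hv2⟩ := Scheme.Pullback.exists_preimage_pullback (f := P.hom) (g := f) y w hw.symm
    let V : Over S := Over.mk (pullback.snd P.hom f ≫ f)
    let u₁ : V ⟶ P := Over.homMk (pullback.fst P.hom f) pullback.condition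
    let u₂ : V ⟶ Over.mk f := Over.homMk (pullback.snd P.hom f) rfl
    -- `g` lies in `P`
    obtain ⟨q, hq⟩ := (inP_of_conjEq hG p hP p' b hB hb hb' g hg).comp u₂
    have hp := hP.1
    -- the point `u₁` of `P` is `g (g⁻¹ u₁ g) g⁻¹`
    obtain ⟨z, hz⟩ := (hg V u₂).1 (q⁻¹ * u₁ * q)
    refine ⟨pullback P.hom f, pullback.fst P.hom f, inferInstance, inferInstance, ⟨v, hv1⟩, z.left, ?_⟩
    have h1 : z ≫ p' = u₁ ≫ p := by
      rw [← hz, MonObj.mul_comp, MonObj.mul_comp, GrpObj.inv_comp, hq]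
      group
    exact congr(($h1).left)
  refine ⟨Over.homMk z ?_, ?_⟩
  · rw [← Over.w p', ← Category.assoc, hz, Over.w p]
  · ext1
    exact hz

omit [GrpObj P] [GrpObj P'] [GrpObj B] in
/-- The relation `ConjEq` with the inverse point. -/
lemma ConjEq.inv {p : P ⟶ G} {p' : P' ⟶ G} {X : Over S} {g : X ⟶ G} (h : RedSub.ConjEq p p' g) :
    RedSub.ConjEq p' p g⁻¹ := by
  intro X' x
  constructor
  · intro k
    obtain ⟨z, hz⟩ := (h X' x).2 k
    exact ⟨z, by rw [← hz, GrpObj.comp_inv, _root_.inv_inv]⟩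
  · intro k
    obtain ⟨z, hz⟩ := (h X' x).1 k
    exact ⟨z, by rw [← hz, GrpObj.comp_inv, _root_.inv_inv]⟩

theorem eq_of_locally_conj (hG : Red.IsReductive G) (p : P ⟶ G) (hP : Red.IsParabolic p) (p' : P' ⟶ G)
    (hP' : Red.IsParabolic p') (b : B ⟶ G) (hB : Red.IsBorel b)
    (hb : ∃ c : B ⟶ P, c ≫ p = b) (hb' : ∃ c' : B ⟶ P', c' ≫ p' = b)
    (hconj : ∀ s : S, ∃ (U : Scheme.{u}) (f : U ⟶ S), Flat f ∧ LocallyOfFinitePresentation f ∧ s ∈ Set.range f.base ∧
      ∃ g : 𝟙_ _ ⟶ Red.bc f G, RedSub.ConjEq ((Over.pullback f).map p) ((Over.pullback f).map p') g) :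
    ∃ e : P ≅ P', e.hom ≫ p' = p := by
  obtain ⟨u, hu⟩ := inP_of_locally_conj hG p hP p' hP' b hB hb hb' hconj
  obtain ⟨v, hv⟩ := inP_of_locally_conj hG p' hP' p hP b hB hb' hb fun s => by
    obtain ⟨U, f, hf1, hf2, hs, g, hg⟩ := hconj s
    exact ⟨U, f, hf1, hf2, hs, g⁻¹, ConjEq.inv hg⟩
  have hcl : IsClosedImmersion p.left := hP.2.1
  have hcl' : IsClosedImmersion p'.left := hP'.2.1
  have hm : Mono p := Over.mono_of_mono_left p
  have hm' : Mono p' := Over.mono_of_mono_left p'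
  refine ⟨⟨u, v, ?_, ?_⟩, hu⟩
  · rw [← cancel_mono p, Category.assoc, hv, hu, Category.id_comp]
  · rw [← cancel_mono p', Category.assoc, hu, hv, Category.id_comp]

end Groth.Agent.RedSub.H657.TrBorel
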