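import Groth.Agent.Sga3A.NormBase

set_option autoImplicit false
open CategoryTheory MonoidalCategory CartesianMonoidalCategory MonObj GrpObj AlgebraicGeometry Limits
universe u
open scoped TensorProduct

/-! Points of a group scheme conjugating a subscheme `b : B ⟶ G` into a subgroup `i : P ⟶ G`: basic calculus, and
descent along injective ring maps (relative version of `Sga3A.NormDefs`, `Sga3A.NormRing`). -/

namespace Groth.Agent.RedSub.H657.TrDefs

open Groth.Agent.Sga3A.NormDefs Groth.Agent.Sga3A.NormRing Groth.Agent.Sga3B.BcPts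

variable {S : Scheme.{u}} {G P B : Over S} [GrpObj G]

/-- the point `g` conjugates `B` into `P`. -/
def Tr (b : B ⟶ G) (i : P ⟶ G) {Y : Over S} (g : Y ⟶ G) : Prop :=
  ∀ (X : Over S) (x : X ⟶ Y) (h : X ⟶ B), InP i ((x ≫ g) * (h ≫ b) * (x ≫ g)⁻¹)

variable {i : P ⟶ G} {b : B ⟶ G}

lemma Tr.comp {Y Y' : Over S} {g : Y ⟶ G} (h : Tr b i g) (y : Y' ⟶ Y) : Tr b i (y ≫ g) := by
  intro X x k
  have := h X (x ≫ y) k
  simpa using this

/-- normalising points after transporting points -/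
lemma Tr.nor_mul {Y : Over S} {g h : Y ⟶ G} (hg : Nor i g) (hh : Tr b i h) : Tr b i (g * h) := by
  intro X x k
  obtain ⟨k', hk'⟩ := hh X x k
  have := hg X x k'
  rw [hk'] at this
  have e : (x ≫ (g * h)) * (k ≫ b) * (x ≫ (g * h))⁻¹ =
      (x ≫ g) * ((x ≫ h) * (k ≫ b) * (x ≫ h)⁻¹) * (x ≫ g)⁻¹ := by
    rw [MonObj.comp_mul, _root_.mul_inv_rev]
    simp only [_root_.mul_assoc]
  rw [e]
  exact this

lemma Tr.one {c : B ⟶ P} (hc : c ≫ i = b) {Y : Over S} : Tr b i (1 : Y ⟶ G) := by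
  intro X x h
  rw [MonObj.comp_one, inv_one, _root_.one_mul, _root_.mul_one]
  exact ⟨h ≫ c, by rw [Category.assoc, hc]⟩

lemma InP.tr [GrpObj P] [IsMonHom i] {c : B ⟶ P} (hc : c ≫ i = b) {Y : Over S} {g : Y ⟶ G}
    (hg : InP i g) : Tr b i g := by
  have := Tr.nor_mul (b := b) hg.nor (Tr.one hc)
  rwa [_root_.mul_one] at this

lemma tr_iff {Y : Over S} {g : Y ⟶ G} : Tr b i g ↔ InP i (uconj b g) := by
  refine ⟨fun h => h _ _ _, fun h X x k => ?_⟩
  have := h.comp (lift x k)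
  rw [uconj, comp_conj] at this
  simpa using this

section bc

variable {S' : Scheme.{u}} (f : S' ⟶ S)

/-- a point of the base change -/
lemma tr_bc {T : Over S'} {x : (Over.map f).obj T ⟶ G} (h : Tr b i x) :
    Tr ((Over.pullback f).map b) ((Over.pullback f).map i) (bcEquiv f T G x) := by
  intro X y k
  obtain ⟨k, rfl⟩ := (bcEquiv f X B).surjective k
  have h1 := h _ ((Over.map f).map y) k
  rw [← comp_bcEquiv, ← bcEquiv_comp]
  have h2 := (inP_bc_iff (i := i) f _).2 h1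
  convert h2 using 1
  have h3 : (bcEquiv f X G ((Over.map f).map y ≫ x))⁻¹ =
      bcEquiv f X G ((Over.map f).map y ≫ x)⁻¹ :=
    ((bcMulEquiv f X G).map_inv _).symm
  rw [h3, ← bcEquiv_mul, ← bcEquiv_mul]

end bc

/-- the condition `Tr` descends along jointly injective pairs of ring maps -/
theorem tr_of_pair (b : B ⟶ G) (i : P ⟶ G) [IsClosedImmersion i.left] [LocallyOfFinitePresentation i.left]
    [IsAffineHom B.hom] [Flat B.hom]
    {R : Type u} [CommRing R] {r : Spec (.of R) ⟶ S} (g : Over.mk r ⟶ G)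
    {C₁ C₂ : Type u} [CommRing C₁] [CommRing C₂] (φ₁ : R →+* C₁) (φ₂ : R →+* C₂)
    (hinj : ∀ x : R, φ₁ x = 0 → φ₂ x = 0 → x = 0)
    {c₁ : Spec (.of C₁) ⟶ S} {c₂ : Spec (.of C₂) ⟶ S}
    (hc₁ : Spec.map (CommRingCat.ofHom φ₁) ≫ r = c₁) (hc₂ : Spec.map (CommRingCat.ofHom φ₂) ≫ r = c₂)
    (h₁ : Tr b i (res φ₁ hc₁ ≫ g)) (h₂ : Tr b i (res φ₂ hc₂ ≫ g)) : Tr b i g := by
  rw [tr_iff]
  let Y : Over S := Over.mk r
  have haff : IsAffine (Y ⊗ B).left := by
    have : IsAffineHom (pullback.fst r B.hom) := inferInstance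
    exact isAffine_of_isAffineHom (pullback.fst r B.hom)
  let O : Type u := Γ((Y ⊗ B).left, ⊤)
  let e0 : (Y ⊗ B).left ≅ Spec (.of O) := (Y ⊗ B).left.isoSpec
  let o : Spec (.of O) ⟶ S := e0.inv ≫ (Y ⊗ B).hom
  let e : Over.mk o ≅ Y ⊗ B := Over.isoMk e0.symm (by simp [o])
  suffices h : InP i (e.hom ≫ uconj b g) by
    have := h.comp e.inv
    rwa [Iso.inv_hom_id_assoc] at this
  obtain ⟨β, hβ⟩ := Spec.map_surjective ((e.hom ≫ fst Y B).left)
  have hflat : β.hom.Flat := by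
    rw [← Flat.SpecMap_iff, hβ]
    have : Flat (fst Y B).left := by
      change Flat (pullback.fst r B.hom)
      infer_instance
    have : Flat e.hom.left := inferInstance
    rw [Over.comp_left]
    infer_instance
  have key : ∀ (C : Type u) [CommRing C] (φ : R →+* C) (c : Spec (.of C) ⟶ S)
      (hc : Spec.map (CommRingCat.ofHom φ) ≫ r = c) (hN : Tr b i (res φ hc ≫ g))
      (D : Type u) [CommRing D] (α : O →+* D) (γ : C →+* D) (hαγ : α.comp β.hom = γ.comp φ),
      InP i (res α (rfl : Spec.map (CommRingCat.ofHom α) ≫ o = _) ≫ e.hom ≫ uconj b g) := by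
    intro C _ φ c hc hN D _ α γ hαγ
    let d : Spec (.of D) ⟶ S := Spec.map (CommRingCat.ofHom α) ≫ o
    have hd : Spec.map (CommRingCat.ofHom γ) ≫ c = d := by
      have h1 : o = Spec.map β ≫ r := by
        rw [hβ]
        exact (Over.w (e.hom ≫ fst Y B)).symm
      have h2 : d = Spec.map (CommRingCat.ofHom (α.comp β.hom)) ≫ r := by
        simp only [d, h1]
        rw [← Category.assoc, ← Spec.map_comp]
        rfl
      rw [h2, hαγ, ← hc, ← Category.assoc, ← Spec.map_comp]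
      rfl
    let t : Over.mk d ⟶ Y ⊗ B := res α rfl ≫ e.hom
    have ht : t ≫ fst Y B = res γ hd ≫ res φ hc := by
      ext1
      have h3 : (t ≫ fst Y B).left = Spec.map (CommRingCat.ofHom α) ≫ (e.hom ≫ fst Y B).left := by
        simp only [t, Over.comp_left, Category.assoc]
        rfl
      rw [h3, ← hβ, ← Spec.map_comp]
      simp only [Over.comp_left, res_left]
      rw [← Spec.map_comp]
      congr 1
      ext x
      exact congr($hαγ x)
    have h4 := hN _ (res γ hd) (t ≫ snd Y B)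
    have h5 : t ≫ uconj b g = ((t ≫ fst Y B) ≫ g) * ((t ≫ snd Y B) ≫ b) * ((t ≫ fst Y B) ≫ g)⁻¹ := by
      rw [← lift_uconj]
      congr 1
      ext <;> simp
    have h6 : res α (rfl : Spec.map (CommRingCat.ofHom α) ≫ o = _) ≫ e.hom ≫ uconj b g = t ≫ uconj b g := by
      simp only [t, Category.assoc]
    rw [h6, h5, ht]
    simpa using h4
  obtain ⟨I, -, hI⟩ := exists_ideal_over i (e.hom ≫ uconj b g)
  letI : Algebra R O := β.hom.toAlgebra
  letI : Algebra R C₁ := φ₁.toAlgebra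
  letI : Algebra R C₂ := φ₂.toAlgebra
  haveI : Module.Flat R O := hflat
  have hI1 := (hI _ _ _ _).1 (key C₁ φ₁ c₁ hc₁ h₁ (O ⊗[R] C₁)
    (Algebra.TensorProduct.includeLeft (R := R) (S := R) (A := O) (B := C₁)).toRingHom
    (Algebra.TensorProduct.includeRight (R := R) (A := O) (B := C₁)).toRingHom (by
      ext x
      change (algebraMap R O x) ⊗ₜ[R] (1 : C₁) = (1 : O) ⊗ₜ[R] (algebraMap R C₁ x)
      rw [Algebra.algebraMap_eq_smul_one, TensorProduct.smul_tmul, ← Algebra.algebraMap_eq_smul_one]))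
  have hI2 := (hI _ _ _ _).1 (key C₂ φ₂ c₂ hc₂ h₂ (O ⊗[R] C₂)
    (Algebra.TensorProduct.includeLeft (R := R) (S := R) (A := O) (B := C₂)).toRingHom
    (Algebra.TensorProduct.includeRight (R := R) (A := O) (B := C₂)).toRingHom (by
      ext x
      change (algebraMap R O x) ⊗ₜ[R] (1 : C₂) = (1 : O) ⊗ₜ[R] (algebraMap R C₂ x)
      rw [Algebra.algebraMap_eq_smul_one, TensorProduct.smul_tmul, ← Algebra.algebraMap_eq_smul_one]))
  have h0 : I = ⊥ := by
    rw [eq_bot_iff]
    intro x hx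
    exact tmul_jointly_inj (B := R) (C₁ := C₁) (C₂ := C₂) (fun y h1 h2 => hinj y h1 h2) x (hI1 hx) (hI2 hx)
  have h1 := (hI O o (RingHom.id O) (by simp)).2 (h0 ▸ bot_le)
  rwa [res_id, Category.id_comp] at h1

theorem tr_of_injective (b : B ⟶ G) (i : P ⟶ G) [IsClosedImmersion i.left] [LocallyOfFinitePresentation i.left]
    [IsAffineHom B.hom] [Flat B.hom]
    {R : Type u} [CommRing R] {r : Spec (.of R) ⟶ S} (g : Over.mk r ⟶ G)
    {C : Type u} [CommRing C] (φ : R →+* C) (hφ : Function.Injective φ)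
    {c : Spec (.of C) ⟶ S} (hc : Spec.map (CommRingCat.ofHom φ) ≫ r = c)
    (h : Tr b i (res φ hc ≫ g)) : Tr b i g :=
  tr_of_pair b i g φ φ (fun x hx _ => hφ (by rw [hx, map_zero])) hc hc h h

end Groth.Agent.RedSub.H657.TrDefs
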