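import Groth.Agent.RedSub.H657.TrDefs

set_option autoImplicit false
open CategoryTheory MonoidalCategory CartesianMonoidalCategory MonObj GrpObj AlgebraicGeometry Limits
universe u

/-! Infinitesimal part of the transporter (relative version of `Sga3A.NormInf`). -/

namespace Groth.Agent.RedSub.H657.TrInf

open Groth.Agent.Sga3A.NormDefs Groth.Agent.Sga3A.NormRing Groth.Agent.Sga3A.NormInf Groth.Agent.Sga3B.BcPts
  TrDefs

/-- Every tangent vector of `H` at the origin which conjugates `B` into `Q` is a tangent vector of `Q`. -/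
def InfTr {K : Type u} [Field K] {H Q B : Over (Spec (CommRingCat.of K))} [GrpObj H] (b : B ⟶ H) (j : Q ⟶ H) : Prop :=
  ∀ (h : Over.mk (Spec.map (CommRingCat.ofHom (algebraMap K (DualNumber K)))) ⟶ H),
    (res (TrivSqZeroExt.fstHom K K K).toRingHom (a := Spec.map (CommRingCat.ofHom (algebraMap K (DualNumber K))))
      (c := 𝟙 _) (by
        rw [← Spec.map_comp, ← CommRingCat.ofHom_comp]
        exact Spec.map_id _) ≫ h = 1) → Tr b j h → InP j h

variable {S : Scheme.{u}} {G P B : Over S} [GrpObj G] [GrpObj P]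

theorem inP_of_inf (b : B ⟶ G) (i : P ⟶ G) [IsMonHom i] (c₀ : B ⟶ P) (hc₀ : c₀ ≫ i = b)
    [IsClosedImmersion i.left] [LocallyOfFinitePresentation i.left] [IsAffineHom G.hom]
    [IsAffineHom B.hom] [Flat B.hom]
    (s : S) (hinf : InfTr ((Over.pullback (Red.geomPt s)).map b) ((Over.pullback (Red.geomPt s)).map i))
    {A : Type u} [CommRing A] (φ : S.presheaf.stalk s →+* A) (I : Ideal A)
    (hI : ∀ x ∈ I, ∀ y ∈ I, x * y = 0)
    (hmI : ∀ r ∈ IsLocalRing.maximalIdeal (S.presheaf.stalk s), ∀ x ∈ I, φ r * x = 0)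
    {a : Spec (.of A) ⟶ S} (ha : Spec.map (CommRingCat.ofHom φ) ≫ S.fromSpecStalk s = a)
    (h : Over.mk a ⟶ G) {c : Spec (.of (A ⧸ I)) ⟶ S}
    (hc : Spec.map (CommRingCat.ofHom (Ideal.Quotient.mk I)) ≫ a = c)
    (h1 : res (Ideal.Quotient.mk I) hc ≫ h = 1)
    (hN : Tr b i h) : InP i h := by
  let R : Type u := S.presheaf.stalk s
  let ρ : Spec (.of R) ⟶ S := S.fromSpecStalk s
  have haff : IsAffine (pullback G.hom ρ) := isAffine_of_isAffineHom (pullback.snd G.hom ρ)
  let x₁ : Spec (.of R) ⟶ pullback G.hom ρ := pullback.lift (1 : Over.mk ρ ⟶ G).left (𝟙 _) (by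
    rw [Over.w (1 : Over.mk ρ ⟶ G)]; simp)
  let x₂ : Spec (.of A) ⟶ pullback G.hom ρ := pullback.lift h.left (Spec.map (CommRingCat.ofHom φ)) (by
    rw [Over.w h]; exact ha.symm)
  have hcompat : Spec.map (CommRingCat.ofHom ((Ideal.Quotient.mk I).comp φ)) ≫ x₁ =
      Spec.map (CommRingCat.ofHom (Ideal.Quotient.mk I)) ≫ x₂ := by
    apply pullback.hom_ext
    · simp only [x₁, x₂, Category.assoc, pullback.lift_fst]
      have h2 : res ((Ideal.Quotient.mk I).comp φ) (a := ρ) (c := c) (by
          rw [← hc, ← ha, CommRingCat.ofHom_comp, Spec.map_comp, Category.assoc]) ≫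
          (1 : Over.mk ρ ⟶ G) = res (Ideal.Quotient.mk I) hc ≫ h := by
        rw [h1, MonObj.comp_one]
      exact congr(($h2).left)
    · simp only [x₁, x₂, Category.assoc, pullback.lift_snd, CommRingCat.ofHom_comp, Spec.map_comp]
      erw [Category.comp_id]
  obtain ⟨x, hx1, hx2⟩ := exists_glue φ I (pullback G.hom ρ) x₁ x₂ hcompat
  have hxsnd : x ≫ pullback.snd G.hom ρ = Spec.map (CommRingCat.ofHom (bet φ I)) := by
    obtain ⟨β, hβ⟩ := Spec.map_surjective (x ≫ pullback.snd G.hom ρ)
    have e1 : β ≫ CommRingCat.ofHom (p1 φ I) = 𝟙 _ := by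
      apply Spec.map_injective
      rw [Spec.map_comp, hβ, ← Category.assoc, hx1, pullback.lift_snd, Spec.map_id]
    have e2 : β ≫ CommRingCat.ofHom (p2 φ I) = CommRingCat.ofHom φ := by
      apply Spec.map_injective
      rw [Spec.map_comp, hβ, ← Category.assoc, hx2, pullback.lift_snd]
    rw [← hβ]
    congr 1
    ext r
    · exact congr(CommRingCat.Hom.hom $e1 r)
    · exact congr(CommRingCat.Hom.hom $e2 r)
  let b' : Spec (.of (Bp φ I)) ⟶ S := Spec.map (CommRingCat.ofHom (bet φ I)) ≫ ρ
  let g : Over.mk b' ⟶ G := Over.homMk (x ≫ pullback.fst G.hom ρ) (by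
    simp only [b', Category.assoc, pullback.condition, Over.mk_hom]
    rw [← Category.assoc, hxsnd])
  have hb1 : Spec.map (CommRingCat.ofHom (p1 φ I)) ≫ b' = ρ := by
    simp only [b']
    rw [← Category.assoc, ← Spec.map_comp, ← CommRingCat.ofHom_comp, p1_bet]
    exact (congrArg (· ≫ ρ) (Spec.map_id _)).trans (Category.id_comp _)
  have hb2 : Spec.map (CommRingCat.ofHom (p2 φ I)) ≫ b' = a := by
    simp only [b']
    rw [← Category.assoc, ← Spec.map_comp, ← CommRingCat.ofHom_comp, p2_bet, ← ha]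
  have hg1 : res (p1 φ I) hb1 ≫ g = 1 := by
    ext1
    simp only [Over.comp_left, res_left, g, Over.homMk_left]
    rw [← Category.assoc, hx1, pullback.lift_fst]
  have hg2 : res (p2 φ I) hb2 ≫ g = h := by
    ext1
    simp only [Over.comp_left, res_left, g, Over.homMk_left]
    rw [← Category.assoc, hx2, pullback.lift_fst]
  have hgN : Tr b i g := tr_of_pair b i g (p1 φ I) (p2 φ I) (fun y h1 h2 => by
      ext
      · exact h1
      · exact h2) hb1 hb2 (by rw [hg1]; exact Tr.one hc₀) (by rw [hg2]; exact hN)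
  suffices hg : InP i g by
    rw [← hg2]
    exact hg.comp _
  let K : Type u := AlgebraicClosure (S.residueField s)
  let θ : R →+* K := (algebraMap (S.residueField s) K).comp (S.residue s).hom
  have hθ : ∀ r ∈ IsLocalRing.maximalIdeal R, θ r = 0 := by
    intro r hr
    have : (S.residue s).hom r = 0 := by
      exact (IsLocalRing.residue_eq_zero_iff r).2 hr
    simp [θ, this]
  have hρ : Spec.map (CommRingCat.ofHom θ) ≫ ρ = Red.geomPt s := by
    simp only [Red.geomPt, Scheme.fromSpecResidueField, ρ, θ]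
    rw [CommRingCat.ofHom_comp, Spec.map_comp, Category.assoc]
    rfl
  refine inP_of_family i g fun y hy => ?_
  by_cases hy1 : y.1.1 = 0
  · have hmem : y.1.2 ∈ I := by
      have := (mem_Bp φ I).1 y.2
      rwa [hy1, map_zero, sub_zero] at this
    have hne : (⟨y.1.2, hmem⟩ : I) ≠ 0 := by
      intro h0
      apply hy
      ext
      · exact hy1
      · exact congr(($h0).1)
    obtain ⟨l, hl, hlx⟩ := exists_lam φ I hmI θ hθ _ hne
    let sp := spec φ I hI θ l hl
    have hsp : Spec.map (CommRingCat.ofHom sp) ≫ b' =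
        Spec.map (CommRingCat.ofHom (algebraMap K (DualNumber K))) ≫ Red.geomPt s := by
      simp only [b']
      rw [← hρ, ← Category.assoc, ← Category.assoc, ← Spec.map_comp, ← Spec.map_comp,
        ← CommRingCat.ofHom_comp, ← CommRingCat.ofHom_comp, spec_bet]
    refine ⟨DualNumber K, inferInstance, _, sp, hsp, ?_, ?_⟩
    · intro h0
      apply hlx
      rw [← spec_snd φ I hI θ l hl y hy1 ⟨y.1.2, hmem⟩ rfl]
      change (sp y).snd = 0
      rw [h0]
      rfl
    · let T : Over (Spec (CommRingCat.of K)) := Over.mk (Spec.map (CommRingCat.ofHom (algebraMap K (DualNumber K))))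
      let gl : (Over.map (Red.geomPt s)).obj T ⟶ G := res sp hsp ≫ g
      change InP i gl
      rw [← inP_bc_iff (i := i) (Red.geomPt s)]
      refine hinf _ ?_ (tr_bc _ (hgN.comp _))
      rw [← comp_bcEquiv, ← bcEquiv_one]
      congr 1
      let w : (Over.map (Red.geomPt s)).obj (Over.mk (𝟙 _)) ⟶ Over.mk ρ :=
        Over.homMk (Spec.map (CommRingCat.ofHom θ)) (by simpa using hρ)
      have hw : ∀ t : Over.mk (𝟙 _) ⟶ T, t.left = Spec.map (CommRingCat.ofHom (TrivSqZeroExt.fstHom K K K).toRingHom) →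
          (Over.map (Red.geomPt s)).map t ≫ res sp hsp = w ≫ res (p1 φ I) hb1 := by
        intro t ht
        ext1
        simp only [Over.comp_left, res_left, Over.map_map_left, w, Over.homMk_left]
        rw [ht, ← Spec.map_comp, ← Spec.map_comp, ← CommRingCat.ofHom_comp, ← CommRingCat.ofHom_comp]
        congr 2
        exact fst_spec φ I hI θ l hl
      simp only [gl]
      rw [← Category.assoc, hw _ rfl, Category.assoc, hg1, MonObj.comp_one]
  · exact ⟨R, inferInstance, ρ, p1 φ I, hb1, hy1, by rw [hg1]; exact InP.one⟩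

end Groth.Agent.RedSub.H657.TrInf
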