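import Groth.Agent.RedSub.H657.TrInf

set_option autoImplicit false
open CategoryTheory MonoidalCategory CartesianMonoidalCategory MonObj GrpObj AlgebraicGeometry Limits
universe u

/-! A smooth closed subgroup `P` containing `B` equals the transporter of `B` into `P` if this holds on geometric
points and infinitesimally (relative version of `Sga3A.NormMain`, `Sga3A.NormField`, `Sga3A.NormBase`). -/

namespace Groth.Agent.RedSub.H657.TrMain

open Groth.Agent.Sga3A.NormDefs Groth.Agent.Sga3A.NormRing Groth.Agent.Sga3B.BcPts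
  TrDefs TrInf

variable {S : Scheme.{u}} {G P B : Over S} [GrpObj G] [GrpObj P]

/-- local step -/
theorem inP_of_local (b : B ⟶ G) (i : P ⟶ G) [IsMonHom i] (c₀ : B ⟶ P) (hc₀ : c₀ ≫ i = b)
    [IsClosedImmersion i.left] [LocallyOfFinitePresentation i.left] [IsAffineHom G.hom]
    [IsAffineHom B.hom] [Flat B.hom] [Smooth P.hom]
    (hinf : ∀ s : S, InfTr ((Over.pullback (Red.geomPt s)).map b) ((Over.pullback (Red.geomPt s)).map i))
    {A : Type u} [CommRing A] [IsLocalRing A] (I : Ideal A)
    (hImax : I ≤ IsLocalRing.maximalIdeal A)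
    (hI : ∀ x ∈ IsLocalRing.maximalIdeal A, ∀ y ∈ I, x * y = 0)
    {a : Spec (.of A) ⟶ S} (g : Over.mk a ⟶ G) {c : Spec (.of (A ⧸ I)) ⟶ S}
    (hc : Spec.map (CommRingCat.ofHom (Ideal.Quotient.mk I)) ≫ a = c)
    (h1 : InP i (res (Ideal.Quotient.mk I) hc ≫ g))
    (hN : Tr b i g) : InP i g := by
  obtain ⟨z₀, hz₀⟩ := h1
  have hI2 : I ^ 2 = ⊥ := by
    rw [pow_two, eq_bot_iff, Ideal.mul_le]
    intro x hx y hy
    rw [hI x (hImax hx) y hy]
    exact zero_mem _
  obtain ⟨l, hl1, hl2⟩ := Flat2H.FSSmoothHom.isFormallySmoothHom_of_smooth P.hom A I hI2 z₀.left a (by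
    rw [hc]
    exact (Over.w z₀).symm)
  let z : Over.mk a ⟶ P := Over.homMk l hl2
  have hz : res (Ideal.Quotient.mk I) hc ≫ z = z₀ := by
    ext1
    exact hl1
  let h : Over.mk a ⟶ G := (z ≫ i)⁻¹ * g
  have hg : g = (z ≫ i) * h := by simp [h]
  have hres : res (Ideal.Quotient.mk I) hc ≫ h = 1 := by
    simp only [h]
    rw [MonObj.comp_mul, GrpObj.comp_inv, ← Category.assoc, hz, hz₀]
    exact inv_mul_cancel _
  have hzN : Nor i (z ≫ i)⁻¹ := (InP.inv ⟨z, rfl⟩).nor
  have hhN : Tr b i h := Tr.nor_mul hzN hN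
  rw [hg]
  refine InP.mul ⟨z, rfl⟩ ?_
  let s : S := a (IsLocalRing.closedPoint A)
  have hloc : IsLocalHom (Scheme.stalkClosedPointTo a).hom := inferInstance
  refine inP_of_inf b i c₀ hc₀ s (hinf s) (Scheme.stalkClosedPointTo a).hom I
    (fun x hx y hy => hI x (hImax hx) y hy) (fun r hr x hx => hI _ ?_ x hx)
    (a := a) (Scheme.Spec_stalkClosedPointTo_fromSpecStalk a) h hc hres hhN
  exact (IsLocalRing.mem_maximalIdeal _).2
    (fun hu => (IsLocalRing.mem_maximalIdeal r).1 hr (hloc.map_nonunit r hu))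

/-- The affine case. -/
theorem inP_of_affine (b : B ⟶ G) (i : P ⟶ G) [IsMonHom i] (c₀ : B ⟶ P) (hc₀ : c₀ ≫ i = b)
    [IsClosedImmersion i.left] [LocallyOfFinitePresentation i.left] [IsAffineHom G.hom]
    [IsAffineHom B.hom] [Flat B.hom] [Smooth P.hom]
    (hfield : ∀ (K : Type u) [Field K] (k : Spec (.of K) ⟶ S) (g : Over.mk k ⟶ G), Tr b i g → InP i g)
    (hinf : ∀ s : S, InfTr ((Over.pullback (Red.geomPt s)).map b) ((Over.pullback (Red.geomPt s)).map i))
    {A : Type u} [CommRing A] {a : Spec (.of A) ⟶ S} (g : Over.mk a ⟶ G) (hN : Tr b i g) :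
    InP i g := by
  obtain ⟨I, hfg, hI⟩ := exists_ideal_over i g
  suffices h0 : I = ⊥ by
    have h1 := (hI A a (RingHom.id A) (by simp)).2 (h0 ▸ bot_le)
    rwa [res_id, Category.id_comp] at h1
  have hprime : ∀ p : Ideal A, [p.IsPrime] → I ≤ p := by
    intro p _
    have h1 := (hI p.ResidueField _ (algebraMap A p.ResidueField) rfl).1 (hfield _ _ _ (hN.comp _))
    rwa [Ideal.ker_algebraMap_residueField] at h1
  apply ideal_eq_bot_of_localization' I
  intro m hm
  let L : Type u := Localization.AtPrime m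
  let J : Ideal L := I.map (algebraMap A L)
  have hJfg : J.FG := hfg.map _
  have hJmax : J ≤ IsLocalRing.maximalIdeal L := by
    rw [Ideal.map_le_iff_le_comap]
    exact (hprime m).trans (IsLocalization.AtPrime.under_maximalIdeal L m).ge
  change J = ⊥
  refine Submodule.eq_bot_of_le_smul_of_le_jacobson_bot (IsLocalRing.maximalIdeal L) J hJfg ?_
    (IsLocalRing.maximalIdeal_le_jacobson _)
  let N : Ideal L := IsLocalRing.maximalIdeal L • J
  change J ≤ N
  have hNJ : N ≤ J := Ideal.mul_le_right
  have hNmax : N ≤ IsLocalRing.maximalIdeal L := hNJ.trans hJmax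
  have hnt : Nontrivial (L ⧸ N) := Ideal.Quotient.nontrivial_iff.2
    (fun h => (IsLocalRing.maximalIdeal.isMaximal L).ne_top (top_le_iff.1 (h ▸ hNmax)))
  have hloc : IsLocalRing (L ⧸ N) := IsLocalRing.of_surjective' (Ideal.Quotient.mk N) Ideal.Quotient.mk_surjective
  let ψ : A →+* L ⧸ N := (Ideal.Quotient.mk N).comp (algebraMap A L)
  let I' : Ideal (L ⧸ N) := J.map (Ideal.Quotient.mk N)
  have hmax : IsLocalRing.maximalIdeal (L ⧸ N) = (IsLocalRing.maximalIdeal L).map (Ideal.Quotient.mk N) := by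
    have := Ideal.IsMaximal.map_of_surjective_of_ker_le (f := Ideal.Quotient.mk N)
      Ideal.Quotient.mk_surjective (m := IsLocalRing.maximalIdeal L) (by simpa using hNmax)
    exact (IsLocalRing.eq_maximalIdeal this).symm
  have h1 : InP i (res ψ rfl ≫ g) := by
    refine inP_of_local b i c₀ hc₀ hinf I' ?_ ?_ (res ψ rfl ≫ g) rfl ?_ (hN.comp _)
    · rw [hmax]
      exact Ideal.map_mono hJmax
    · rw [hmax]
      intro x hx y hy
      obtain ⟨x', hx', rfl⟩ := (Ideal.mem_map_iff_of_surjective _ Ideal.Quotient.mk_surjective).1 hx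
      obtain ⟨y', hy', rfl⟩ := (Ideal.mem_map_iff_of_surjective _ Ideal.Quotient.mk_surjective).1 hy
      rw [← map_mul, Ideal.Quotient.eq_zero_iff_mem]
      exact Ideal.mul_mem_mul hx' hy'
    · have h5 := res_comp (S := S) (D := (L ⧸ N) ⧸ I') ψ (Ideal.Quotient.mk I') (a := a) rfl rfl
      have h6 := congr($h5 ≫ g)
      rw [Category.assoc] at h6
      rw [h6, hI]
      intro x hx
      rw [RingHom.mem_ker, RingHom.comp_apply, Ideal.Quotient.eq_zero_iff_mem]
      exact Ideal.mem_map_of_mem _ (Ideal.mem_map_of_mem _ hx)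
  have h2 := (hI _ _ _ _).1 h1
  change I.map (algebraMap A L) ≤ N
  rw [Ideal.map_le_iff_le_comap]
  intro x hx
  have h3 : ψ x = 0 := h2 hx
  exact (Ideal.Quotient.eq_zero_iff_mem (I := N)).1 h3

/-- points over an algebraically closed field, in terms of points over a smaller one. -/
theorem inP_of_ext (b : B ⟶ G) (i : P ⟶ G)
    [IsClosedImmersion i.left] [LocallyOfFinitePresentation i.left] [IsAffineHom G.hom]
    [LocallyOfFiniteType G.hom] [IsAffineHom B.hom] [Flat B.hom]
    {K : Type u} [Field K] [IsAlgClosed K] (f : Spec (.of K) ⟶ S)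
    (hpts : ∀ g : 𝟙_ (Over (Spec (CommRingCat.of K))) ⟶ Red.bc f G,
      Tr ((Over.pullback f).map b) ((Over.pullback f).map i) g → InP ((Over.pullback f).map i) g)
    {L : Type u} [Field L] (j : K →+* L) {l : Spec (.of L) ⟶ S}
    (hl : Spec.map (CommRingCat.ofHom j) ≫ f = l) (g : Over.mk l ⟶ G) (hN : Tr b i g) : InP i g := by
  subst hl
  have haff : IsAffine (pullback G.hom f) := isAffine_of_isAffineHom (pullback.snd G.hom f)
  let E : Type u := Γ(pullback G.hom f, ⊤)
  obtain ⟨κ, hκ⟩ := Spec.map_surjective ((pullback G.hom f).isoSpec.inv ≫ pullback.snd G.hom f)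
  have hκft : κ.hom.FiniteType := by
    have : LocallyOfFiniteType (Spec.map κ) := by
      rw [hκ]; infer_instance
    exact (HasRingHomProperty.Spec_iff (P := @LocallyOfFiniteType)).1 this
  let x : Spec (.of L) ⟶ pullback G.hom f := pullback.lift g.left (Spec.map (CommRingCat.ofHom j)) (by
    simp)
  obtain ⟨α, hα⟩ := Spec.map_surjective (x ≫ (pullback G.hom f).isoSpec.hom)
  have hακ : α.hom.comp κ.hom = j := by
    have : κ ≫ α = CommRingCat.ofHom j := by
      apply Spec.map_injective
      rw [Spec.map_comp, hα, hκ]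
      simp only [Category.assoc, Iso.hom_inv_id_assoc]
      exact pullback.lift_snd _ _ _
    exact congrArg CommRingCat.Hom.hom this
  let C : Subring L := α.hom.range
  let α' : E →+* C := α.hom.rangeRestrict
  let κC : K →+* C := α'.comp κ.hom
  let c : Spec (.of C) ⟶ S := Spec.map (CommRingCat.ofHom κC) ≫ f
  let gC : Over.mk c ⟶ G := Over.homMk (Spec.map (CommRingCat.ofHom α') ≫ (pullback G.hom f).isoSpec.inv ≫
    pullback.fst G.hom f) (by
      simp only [Category.assoc, pullback.condition, Over.mk_hom, c, κC]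
      rw [← Category.assoc _ (pullback.snd G.hom f), ← hκ, ← Category.assoc, ← Spec.map_comp]
      rfl)
  have hsub : Spec.map (CommRingCat.ofHom C.subtype) ≫ c = Spec.map (CommRingCat.ofHom j) ≫ f := by
    simp only [c]
    rw [← Category.assoc, ← Spec.map_comp, ← CommRingCat.ofHom_comp]
    congr 3
  have hgC : res C.subtype hsub ≫ gC = g := by
    ext1
    simp only [Over.comp_left, res_left, gC, Over.homMk_left]
    rw [← Category.assoc, ← Spec.map_comp]
    have : CommRingCat.ofHom α' ≫ CommRingCat.ofHom C.subtype = α := by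
      ext y; rfl
    rw [this, hα]
    simp only [Category.assoc, Iso.hom_inv_id_assoc]
    exact pullback.lift_fst _ _ _
  have hCN : Tr b i gC := tr_of_injective b i gC C.subtype Subtype.val_injective hsub (by rw [hgC]; exact hN)
  suffices h : InP i gC by
    rw [← hgC]
    exact h.comp _
  refine inP_of_family i gC fun y hy => ?_
  let := κC.toAlgebra
  have hft : Algebra.FiniteType K C := by
    have h1 : κC.FiniteType := RingHom.FiniteType.comp (RingHom.FiniteType.of_surjective α'
      α.hom.rangeRestrict_surjective) hκft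
    exact h1
  obtain ⟨τ, hτ⟩ : ∃ τ : C →ₐ[K] K, τ y ≠ 0 := by
    by_contra hcon
    push Not at hcon
    exact hy (Books.PointsAC.eq_zero_of_forall_point K C y hcon)
  have hτκ : τ.toRingHom.comp κC = RingHom.id K := by
    ext z
    exact τ.commutes z
  have hτc : Spec.map (CommRingCat.ofHom τ.toRingHom) ≫ c = f := by
    simp only [c]
    rw [← Category.assoc, ← Spec.map_comp, ← CommRingCat.ofHom_comp, hτκ]
    exact (congrArg (· ≫ f) (Spec.map_id _)).trans (Category.id_comp _)
  refine ⟨K, inferInstance, f, τ.toRingHom, hτc, hτ, ?_⟩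
  let e : (Over.map f).obj (𝟙_ (Over (Spec (CommRingCat.of K)))) ≅ Over.mk f :=
    Over.isoMk (Iso.refl _) (by simp)
  suffices h : InP i (e.hom ≫ res τ.toRingHom hτc ≫ gC) by
    have := h.comp e.inv
    rwa [Iso.inv_hom_id_assoc] at this
  rw [← inP_bc_iff (i := i) f]
  exact hpts _ (tr_bc _ ((hCN.comp _).comp _))

theorem inP_of_field (b : B ⟶ G) (i : P ⟶ G)
    [IsClosedImmersion i.left] [LocallyOfFinitePresentation i.left] [IsAffineHom G.hom]
    [LocallyOfFiniteType G.hom] [IsAffineHom B.hom] [Flat B.hom]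
    (hpts : ∀ (s : S) (g : 𝟙_ (Over (Spec (CommRingCat.of (AlgebraicClosure (S.residueField s))))) ⟶
        Red.geomFibre s G),
      Tr ((Over.pullback (Red.geomPt s)).map b) ((Over.pullback (Red.geomPt s)).map i) g →
        InP ((Over.pullback (Red.geomPt s)).map i) g)
    (K : Type u) [Field K] (k : Spec (.of K) ⟶ S) (g : Over.mk k ⟶ G) (hN : Tr b i g) : InP i g := by
  refine inP_of_injective i g (algebraMap K (AlgebraicClosure K))
    (algebraMap K (AlgebraicClosure K)).injective rfl ?_
  obtain ⟨s, α, hα⟩ : ∃ (s : S) (α : S.residueField s ⟶ .of K), k = Spec.map α ≫ S.fromSpecResidueField s := by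
    refine ⟨_, (Scheme.SpecToEquivOfField K S k).2, ?_⟩
    exact ((Scheme.SpecToEquivOfField K S).symm_apply_apply k).symm
  let β : S.residueField s →+* AlgebraicClosure K := (algebraMap K (AlgebraicClosure K)).comp α.hom
  let := β.toAlgebra
  let j : AlgebraicClosure (S.residueField s) →ₐ[S.residueField s] AlgebraicClosure K := IsAlgClosed.lift
  refine inP_of_ext b i (Red.geomPt s) (hpts s) j.toRingHom ?_ _ (hN.comp _)
  have hj : j.toRingHom.comp (algebraMap (S.residueField s) (AlgebraicClosure (S.residueField s))) = β :=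
    j.comp_algebraMap
  rw [hα]
  simp only [Red.geomPt]
  rw [← Category.assoc, ← Category.assoc, ← Spec.map_comp, ← Spec.map_comp, ← CommRingCat.ofHom_comp, hj]
  rfl

/-- **Transporter criterion.** Let `G` be smooth affine over `S`, `P` a smooth closed subgroup scheme, `B` flat and affine
over `S` with a morphism to `P`. If on the geometric fibres every rational point (tangent vector at the origin) of `G` which
conjugates `B` into `P` lies in `P`, then every point of `G` which conjugates `B` into `P` lies in `P`. -/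
theorem inP_of_tr (b : B ⟶ G) (i : P ⟶ G) (c₀ : B ⟶ P) (hc₀ : c₀ ≫ i = b)
    (hi : IsMonHom i) (hcl : IsClosedImmersion i.left) (hG : IsAffineHom G.hom)
    (hGs : Smooth G.hom) (hPs : Smooth P.hom) (hBa : IsAffineHom B.hom) (hBf : Flat B.hom)
    (hpts : ∀ (s : S) (g : 𝟙_ (Over (Spec (CommRingCat.of (AlgebraicClosure (S.residueField s))))) ⟶
        Red.geomFibre s G),
      Tr ((Over.pullback (Red.geomPt s)).map b) ((Over.pullback (Red.geomPt s)).map i) g →
        InP ((Over.pullback (Red.geomPt s)).map i) g)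
    (hinf : ∀ s : S, InfTr ((Over.pullback (Red.geomPt s)).map b) ((Over.pullback (Red.geomPt s)).map i))
    {X : Over S} (g : X ⟶ G) (hN : Tr b i g) : InP i g := by
  have hlfp : LocallyOfFinitePresentation i.left := by
    have : LocallyOfFinitePresentation (i.left ≫ G.hom) := by
      rw [Over.w i]; infer_instance
    exact Ega43.FPOfComp.locallyOfFinitePresentation_of_comp i.left G.hom
  exact Sga3A.NormBase.inP_of_cover i g fun A _ a t =>
    inP_of_affine b i c₀ hc₀ (inP_of_field b i hpts) hinf (t ≫ g) (hN.comp t)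

end Groth.Agent.RedSub.H657.TrMain
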