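import Groth.Agent.Sga3A.NormTorus
import Groth.Agent.RedSub.H657.TrInf

set_option autoImplicit false
universe u

/-! The infinitesimal condition for the transporter of a subscheme containing a torus whose centraliser lies in the
subgroup (relative version of `Sga3A.NormTorus`). -/

open WithConv TensorProduct Coalgebra

namespace Groth.Agent.RedSub.H657.TrTorus

open Groth.Agent.Books.DynBasic (mapPt ptGroup mapPt_apply inv_def)
open Groth.Agent.Sga3B.RG.ConjGrade
open CategoryTheory MonoidalCategory CartesianMonoidalCategory MonObj GrpObj AlgebraicGeometry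
open Groth.Agent.Books.AffBridge Groth.Agent.Books.AffBridge2
open Groth.Agent.Sga3B.RG.BrCent Groth.Agent.Sga3B.RG.BrPts
open Groth.Agent.Sga3A.NormDefs Groth.Agent.Sga3A.NormRing Groth.Agent.Sga3A.NormInf Groth.Agent.Sga3A.NormTorus
open TrDefs TrInf

variable {K : Type u} [Field K]

theorem inP_of_torus_sq {H Q T : Over (Spec (CommRingCat.of K))} [GrpObj H] [GrpObj Q] [GrpObj T]
    [IsAffine H.left] (j : Q ⟶ H) [IsMonHom j] [IsClosedImmersion j.left] {M : Type} [CommGroup M]
    (e : T ≅ SpecOver K (MonoidAlgebra K M)) [IsMonHom e.hom] (t : T ⟶ Q) [IsMonHom t]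
    (hcent : ∀ (X : Over (Spec (CommRingCat.of K))) (x : X ⟶ H),
      (∀ (X' : Over (Spec (CommRingCat.of K))) (y : X' ⟶ X) (s : X' ⟶ T),
        (y ≫ x) * (s ≫ t ≫ j) = (s ≫ t ≫ j) * (y ≫ x)) → InP j x)
    {E : Type u} [CommRing E] [Algebra K E] (q : E →ₐ[K] K) (hq : ∀ x y, q x = 0 → q y = 0 → x * y = 0)
    (h : SpecOver K E ⟶ H) (h1 : specMap K q ≫ h = 1) (hN : Tr (t ≫ j) j h) : InP j h := by
  obtain ⟨A, _, _, eG, heG⟩ := exists_hopf K H
  have heinv : IsMonHom e.inv := inferInstance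
  obtain ⟨π, hπ⟩ := exists_bialgHom_of_isMonHom K (e.inv ≫ t ≫ j ≫ eG.hom)
  obtain ⟨J, hJ, hInP⟩ := exists_ideal_inP j eG
  let g : WithConv (A →ₐ[K] E) := toConv (specPreimage K (h ≫ eG.hom))
  have hgh : specMap K g.ofConv = h ≫ eG.hom := specMap_specPreimage K _
  have hg : ∀ a, q (g.ofConv a) = counit (R := K) a := by
    have h2 : specMap K (q.comp g.ofConv) = specMap K ((1 : WithConv (A →ₐ[K] K)).ofConv) := by
      rw [specMap_comp, hgh, ← Category.assoc, h1, MonObj.one_comp]
      exact (map_one (rptEquiv K A K)).symm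
    have h3 := specMap_injective K h2
    intro a
    have h4 := DFunLike.congr_fun h3 a
    rw [AlgHom.convOne_def] at h4
    exact h4
  rw [hInP]
  intro a ha
  change g.ofConv a = 0
  rw [apply_eq_wt0 π q hq g hg a (hJ a ha) ?_]
  · -- the weight zero part centralises the torus
    have h2 := wt0_mem_cent π q hq g.ofConv hg
    obtain ⟨z, hz⟩ := (exists_comp_cincl_iff π _).2 h2
    have h3 := (isCentralizerOf_cincl π _ rfl).2.2 _ (specMap K (wt0 π q hq g.ofConv hg))
    have h4 := h3.1 ⟨z, hz⟩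
    have h5 := hcent (SpecOver K E) (specMap K (wt0 π q hq g.ofConv hg) ≫ eG.inv) (by
      intro X' y s
      rw [← cancel_mono eG.hom, MonObj.mul_comp, MonObj.mul_comp]
      have h6 := h4 X' y (s ≫ e.hom)
      rw [hπ] at h6
      simpa using h6)
    rw [hInP] at h5
    have h7 := h5 a ha
    rw [Category.assoc, Iso.inv_hom_id, Category.comp_id, specPreimage_specMap] at h7
    exact h7
  · -- conjugation
    let x : SpecOver K (MonoidAlgebra E M) ⟶ SpecOver K E := specMap K (cst K M E)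
    let lft : MonoidAlgebra K M →ₐ[K] MonoidAlgebra E M := MonoidAlgebra.lift K (MonoidAlgebra E M) M (MonoidAlgebra.of E M)
    let s0 : SpecOver K (MonoidAlgebra E M) ⟶ T := specMap K lft ≫ e.inv
    let s : SpecOver K (MonoidAlgebra E M) ⟶ Q := specMap K lft ≫ e.inv ≫ t
    have hs0 : s0 ≫ t ≫ j = s ≫ j := by simp [s0, s]
    have h2 : InP j ((x ≫ h) * (s ≫ j) * (x ≫ h)⁻¹ * (s ≫ j)⁻¹) := by
      have := hN _ x s0
      rw [hs0] at this
      exact this.mul (InP.inv ⟨s, rfl⟩)
    rw [hInP] at h2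
    have h3 := h2 a ha
    have e1 : rptEquiv K A (MonoidAlgebra E M) (mapPt (cst K M E) g) = (x ≫ h) ≫ eG.hom := by
      change specMap K ((cst K M E).comp g.ofConv) = _
      rw [specMap_comp, hgh, Category.assoc]
    have e2 : rptEquiv K A (MonoidAlgebra E M) (tau π (MonoidAlgebra.of E M)) = (s ≫ j) ≫ eG.hom := by
      change specMap K (lft.comp (π : A →ₐ[K] MonoidAlgebra K M)) = _
      rw [specMap_comp, hπ]
      simp [s]
    have e3 : ((x ≫ h) * (s ≫ j) * (x ≫ h)⁻¹ * (s ≫ j)⁻¹) ≫ eG.hom =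
        rptEquiv K A (MonoidAlgebra E M) (mapPt (cst K M E) g * tau π (MonoidAlgebra.of E M) *
          (mapPt (cst K M E) g)⁻¹ * (tau π (MonoidAlgebra.of E M))⁻¹) := by
      rw [map_mul, map_mul, map_mul, map_inv, map_inv, e1, e2]
      simp only [MonObj.mul_comp, GrpObj.inv_comp]
    rw [e3, rptEquiv_apply, specPreimage_specMap] at h3
    exact h3

/-- **The infinitesimal condition from a torus.** `T` is a torus of `B` and of `Q`, its centraliser lies in `Q`. -/
theorem infTr_of_torus {H Q B T : Over (Spec (CommRingCat.of K))} [GrpObj H] [GrpObj Q] [GrpObj T]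
    [IsAffine H.left] (b : B ⟶ H) (j : Q ⟶ H) [IsMonHom j] [IsClosedImmersion j.left] {M : Type} [CommGroup M]
    (e : T ≅ SpecOver K (MonoidAlgebra K M)) [IsMonHom e.hom] (t : T ⟶ Q) [IsMonHom t]
    (tB : T ⟶ B) (htB : tB ≫ b = t ≫ j)
    (hcent : ∀ (X : Over (Spec (CommRingCat.of K))) (x : X ⟶ H),
      (∀ (X' : Over (Spec (CommRingCat.of K))) (y : X' ⟶ X) (s : X' ⟶ T),
        (y ≫ x) * (s ≫ t ≫ j) = (s ≫ t ≫ j) * (y ≫ x)) → InP j x) : InfTr b j := by
  intro h h1 hN
  have hN' : Tr (t ≫ j) j h := by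
    intro X x s
    have := hN X x (s ≫ tB)
    rwa [Category.assoc, htB] at this
  refine inP_of_torus_sq j e t hcent (E := DualNumber K) (TrivSqZeroExt.fstHom K K K) dual_mul_eq_zero h ?_ hN'
  let w : SpecOver K K ⟶ Over.mk (𝟙 (Spec (CommRingCat.of K))) := Over.homMk (𝟙 _) (by
    exact (Category.comp_id _).trans (Spec.map_id (CommRingCat.of K)).symm)
  have h2 : w ≫ (res (TrivSqZeroExt.fstHom K K K).toRingHom (a := Spec.map (CommRingCat.ofHom (algebraMap K (DualNumber K))))
      (c := 𝟙 _) (by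
        rw [← Spec.map_comp, ← CommRingCat.ofHom_comp]
        exact Spec.map_id _) ≫ h) = 1 := by
    rw [h1, MonObj.comp_one]
  ext1
  have h3 := congr(($h2).left)
  simp only [Over.comp_left, w, Over.homMk_left] at h3
  erw [Category.id_comp] at h3
  exact h3

end Groth.Agent.RedSub.H657.TrTorus
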