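import Groth.Agent.RedSub.H657.TrMain
import Groth.Agent.RedSub.H657.TrTorus
import Groth.Agent.Sga3B.RG.PbQ890
import Groth.Agent.Sga3B.Parab.PbKN751

/-!
# The transporter of a Borel subgroup into a parabolic subgroup containing it, over an algebraically closed field
-/

set_option autoImplicit false

universe u

open CategoryTheory MonoidalCategory CartesianMonoidalCategory MonObj GrpObj AlgebraicGeometry
open Groth.Agent.Books.AffBridge Groth.Agent.Books.AffBridge2
open Groth.Agent.Sga3B Groth.Agent.Sga3B.RG Groth.Agent.Sga3B.RG.BrPts Groth.Agent.Sga3B.Parab.BorelPts172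

namespace Groth.Agent.RedSub.H657.TrOver

open Groth.Agent.Sga3A.NormDefs TrDefs TrInf

/-- If `g` conjugates the Borel subgroup `B` into a closed subgroup `P` containing `B` then `g ∈ P`. -/
theorem mem_of_conj_le {K : Type u} [Field K] [IsAlgClosed K] {A : Type u} [CommRing A] [HopfAlgebra K A]
    [Algebra.FiniteType K A] [IsDomain A] (hred : IsRedPt K A) {B P : Subgroup (Pt K A)} (hB : IsBorelPt B)
    (hP : IsCl (P : Set (Pt K A))) (hBP : B ≤ P) {g : Pt K A} (hg : ∀ x ∈ B, g * x * g⁻¹ ∈ P) : g ∈ P := by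
  have hB' := PbNorm890.isBorelPt_conj hB g
  have hBP' : B.map (MulAut.conj g).toMonoidHom ≤ P := by
    rintro _ ⟨x, hx, rfl⟩
    exact hg x hx
  obtain ⟨p, hp, hpe⟩ := PbNorm890.exists_conj_mem hP hB hB' hBP hBP'
  rw [map_conj_map_conj] at hpe
  have hn : p * g ∈ Subgroup.normalizer (B : Set (Pt K A)) := by
    rw [Subgroup.mem_normalizer_iff]
    intro x
    have h4 : (p * g) * x * (p * g)⁻¹ ∈ B.map (MulAut.conj (p * g)).toMonoidHom ↔ x ∈ B := by
      rw [mem_map_conj]
      have h5 : (p * g)⁻¹ * (p * g * x * (p * g)⁻¹) * (p * g) = x := by group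
      rw [h5]
    rw [hpe] at h4
    exact h4.symm
  have hKN := PbQ890.kn K A hred B B hB hB.isCl le_rfl
  rw [hKN] at hn
  exact (Subgroup.mul_mem_cancel_left _ hp).1 (hBP hn)

variable {K : Type u} [Field K] [IsAlgClosed K] {H Q B : Over (Spec (CommRingCat.of K))}
  [GrpObj H] [GrpObj Q] [GrpObj B]

/-- Rational points. -/
theorem inP_of_tr_over (j : Q ⟶ H) (b : B ⟶ H) (hH : Red.IsReductiveOver K H) (hj : Red.IsParabolicOver K j)
    (hb : Red.IsBorelOver K b) (c : B ⟶ Q) (hc : c ≫ j = b)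
    (g : 𝟙_ (Over (Spec (CommRingCat.of K))) ⟶ H) (hg : Tr b j g) : InP j g := by
  obtain ⟨A, _, _, eG, heG, hft, hdom, hred⟩ := BrHc.exists_hopf_of_isReductiveOver H hH
  have hj1 : IsMonHom j := hj.1
  have hj2 : IsClosedImmersion j.left := hj.2.1
  have hj3 : Smooth Q.hom := hj.2.2.1
  have hb1 : IsMonHom b := hb.1
  have hb2 : IsClosedImmersion b.left := hb.2.1
  have hb3 : Smooth B.hom := hb.2.2.1
  have hiso : IsIso eG.hom.left := inferInstanceAs (IsIso ((Over.forget _).map eG.hom))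
  have hcl : IsClosedImmersion (j ≫ eG.hom).left := by
    rw [Over.comp_left]; infer_instance
  have hclb : IsClosedImmersion (b ≫ eG.hom).left := by
    rw [Over.comp_left]; infer_instance
  have hm : Mono (j ≫ eG.hom) := Books.AlgPtsGrp.mono_of_isClosedImmersion _
  have hb' : Red.IsBorelOver K (b ≫ eG.hom) :=
    ParBc.isBorelOver_of_arrow (Iso.refl _) (Grp.mkIso' eG) (by exact (Category.id_comp _).symm) hb
  have hB := (isBorelOver_iff (b ≫ eG.hom)).1 hb'
  have hle : ptsSub (b ≫ eG.hom) ≤ ptsSub (j ≫ eG.hom) :=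
    ptsSub_le_of_comp _ _ c (by rw [← hc, Category.assoc])
  have h2 := mem_of_conj_le hred hB (exists_iso_vanIdeal (j ≫ eG.hom)).1 hle
    (g := (ptEquiv K A).symm (g ≫ eG.hom)) (by
      rintro x ⟨q, hq⟩
      obtain ⟨q', hq'⟩ := hg _ (𝟙 _) q
      rw [Category.id_comp] at hq'
      refine ⟨q', ?_⟩
      change q' ≫ j ≫ eG.hom = ptEquiv K A ((ptEquiv K A).symm (g ≫ eG.hom) * x * ((ptEquiv K A).symm (g ≫ eG.hom))⁻¹)
      rw [map_mul, map_mul, map_inv, MulEquiv.apply_symm_apply, ← hq, ← Category.assoc, hq', MonObj.mul_comp,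
        MonObj.mul_comp, GrpObj.inv_comp, Category.assoc])
  obtain ⟨q, hq⟩ := h2
  rw [MulEquiv.apply_symm_apply, ← Category.assoc, cancel_mono] at hq
  exact ⟨q, hq⟩

/-- Tangent vectors. -/
theorem infTr_over (j : Q ⟶ H) (b : B ⟶ H) (hH : Red.IsReductiveOver K H) (hj : Red.IsParabolicOver K j)
    (hb : Red.IsBorelOver K b) (c : B ⟶ Q) (hc : c ≫ j = b) : InfTr b j := by
  have hj1 : IsMonHom j := hj.1
  have hj2 : IsClosedImmersion j.left := hj.2.1
  have hmj : Mono j := Books.AlgPtsGrp.mono_of_isClosedImmersion _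
  have hb1 : IsMonHom b := hb.1
  have hHa : IsAffine H.left := hH.1
  have hcm : IsMonHom c := by
    have : IsMonHom (c ≫ j) := by rw [hc]; exact hb1
    exact Sga3A.NormFib836.isMonHom_of_comp_mono c j
  -- a torus of `B` containing its centraliser
  have hbpar : Red.IsParabolicOver K b := ⟨hb.1, hb.2.1, hb.2.2.1, B, inferInstance, 𝟙 _, by
    rw [Category.id_comp]; exact hb⟩
  obtain ⟨T, _, t, ht, hT, hcent⟩ := Sga3A.NormFib836.torusInParab Parab.PbKN751.torusInBorel
    K H B b hH hbpar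
  obtain ⟨n, e, he⟩ := Sga3B.RG.BrTorus.isTorus_iff.1 hT
  refine TrTorus.infTr_of_torus b j e (t ≫ c) t (by rw [Category.assoc, hc]) fun X x hx => ?_
  obtain ⟨z, hz⟩ := hcent X x (fun X' y s => by
    have := hx X' y s
    simpa only [Category.assoc, hc] using this)
  exact ⟨z ≫ c, by rw [Category.assoc, hc, hz]⟩

end Groth.Agent.RedSub.H657.TrOver
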